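import Groth.Prelude.Def_SGA3b
import Mathlib.RingTheory.Bialgebra.TensorProduct
import Mathlib.RingTheory.Coalgebra.Convolution
import Mathlib.RingTheory.FiniteType
import Mathlib.RingTheory.Flat.Basic
import Mathlib.RingTheory.Flat.Stability
import Mathlib.RingTheory.TensorProduct.Quotient

/-!
Charts of affine groups of multiplicative type: faithfully flat points with values in group algebras.
-/

universe u

open TensorProduct WithConv

noncomputable section

namespace Groth.Agent.MultType

section Compat

variable {R S T : Type u} [CommRing R] [CommRing S] [CommRing T] [Algebra R S]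
variable {A B D : Type u} [CommRing A] [Bialgebra R A] [CommRing B] [Bialgebra S B] [Algebra R B] [IsScalarTower R S B]

/-- `θ ⊗ θ`, changing the base -/
def tmap (θ : A →ₐ[R] B) : A ⊗[R] A →ₐ[R] B ⊗[S] B :=
  Algebra.TensorProduct.lift ((Algebra.TensorProduct.includeLeft : B →ₐ[S] B ⊗[S] B).restrictScalars R |>.comp θ)
    ((Algebra.TensorProduct.includeRight : B →ₐ[S] B ⊗[S] B).restrictScalars R |>.comp θ)
    (fun _ _ => .all _ _)

@[simp] theorem tmap_tmul (θ : A →ₐ[R] B) (a b : A) : tmap (S := S) θ (a ⊗ₜ b) = θ a ⊗ₜ[S] θ b := by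
  simp [tmap]

/-- a map of bialgebras over a map of rings -/
structure Compat (S : Type u) [CommRing S] [Algebra R S] {B : Type u} [CommRing B] [Bialgebra S B] [Algebra R B]
    [IsScalarTower R S B] (θ : A →ₐ[R] B) : Prop where
  counit : ∀ a, Coalgebra.counit (R := S) (θ a) = algebraMap R S (Coalgebra.counit (R := R) a)
  comul : ∀ a, Coalgebra.comul (R := S) (θ a) = tmap θ (Coalgebra.comul (R := R) a)

theorem Compat.comp [Algebra S T] [Algebra R T] [IsScalarTower R S T] [CommRing D] [Bialgebra T D] [Algebra S D]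
    [IsScalarTower S T D] [Algebra R D] [IsScalarTower R T D] [IsScalarTower R S D]
    {θ : A →ₐ[R] B} (hθ : Compat S θ) {η : B →ₐ[S] D} (hη : Compat T η) :
    Compat T ((η.restrictScalars R).comp θ) where
  counit a := by simp [hη.counit, hθ.counit, ← IsScalarTower.algebraMap_apply]
  comul a := by
    simp only [AlgHom.comp_apply, AlgHom.restrictScalars_apply, hη.comul, hθ.comul]
    generalize Coalgebra.comul (R := R) a = z
    induction z using TensorProduct.induction_on with
    | zero => simp
    | tmul x y => simp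
    | add x y hx hy => simp only [map_add, hx, hy]

theorem compat_includeRight : Compat S (Algebra.TensorProduct.includeRight : A →ₐ[R] S ⊗[R] A) where
  counit a := by simp [Algebra.smul_def]
  comul a := by
    simp only [Algebra.TensorProduct.includeRight_apply, TensorProduct.comul_tmul]
    generalize Coalgebra.comul (R := R) a = z
    induction z using TensorProduct.induction_on with
    | zero => simp
    | tmul x y => simp
    | add x y hx hy => simp only [tmul_add, map_add, hx, hy]

theorem compat_bialgHom {B' : Type u} [CommRing B'] [Bialgebra S B'] (e : B →ₐc[S] B') :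
    Compat S (e : B →ₐ[S] B') where
  counit a := by simp
  comul a := by
    show Coalgebra.comul (R := S) (e a) = _
    rw [← CoalgHomClass.map_comp_comul_apply e a]
    generalize Coalgebra.comul (R := S) a = z
    induction z using TensorProduct.induction_on with
    | zero => simp
    | tmul x y => simp
    | add x y hx hy => simp only [map_add, hx, hy]

theorem Compat.comp_bialgHom {B' : Type u} [CommRing B'] [Bialgebra S B'] [Algebra R B'] [IsScalarTower R S B']
    {θ : A →ₐ[R] B} (hθ : Compat S θ) (e : B →ₐc[S] B') :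
    Compat S (((e : B →ₐ[S] B').restrictScalars R).comp θ) :=
  hθ.comp (compat_bialgHom e)

end Compat

variable {R : Type u} [CommRing R] {A : Type u} [CommRing A] [HopfAlgebra R A]

/-- `θ` becomes an isomorphism of bialgebras `R' ⊗ A ≅ R'[M]` -/
structure IsChart {R' : Type u} [CommRing R'] [Algebra R R'] {M : Type u} [CommGroup M]
    (θ : A →ₐ[R] MonoidAlgebra R' M) : Prop where
  flat : Module.Flat R R'
  bij : Function.Bijective
    (Algebra.TensorProduct.lift (Algebra.ofId R' (MonoidAlgebra R' M)) θ fun _ _ => .all _ _)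
  compat : Compat R' θ

/-- `Spec R'` covers `D(f)` -/
def Covers (f : R) (R' : Type u) [CommRing R'] [Algebra R R'] : Prop :=
  ∀ (N : Type u) [AddCommGroup N] [Module R N] (x : N), (1 : R') ⊗ₜ[R] x = 0 → ∃ n : ℕ, f ^ n • x = 0

theorem exists_chart (h : SGA3b.IsMultType R A) : ∃ s : Finset R, Ideal.span (s : Set R) = ⊤ ∧ ∀ f ∈ s,
    ∃ (R' : Type u) (_ : CommRing R') (_ : Algebra R R') (M : Type u) (_ : CommGroup M)
      (θ : A →ₐ[R] MonoidAlgebra R' M), Covers f R' ∧ IsUnit (algebraMap R R' f) ∧ IsChart θ := by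
  obtain ⟨s, hs, h⟩ := h
  obtain ⟨t, ht, ht'⟩ := Submodule.mem_span_finite_of_mem_span
    (show (1 : R) ∈ Submodule.span R s from (show (1:R) ∈ Ideal.span s by rw [hs]; trivial))
  refine ⟨t, Ideal.eq_top_iff_one _ |>.2 ht', fun f hf => ?_⟩
  obtain ⟨R', _, _, hff, M, _, ⟨e⟩⟩ := h f (ht hf)
  letI : Algebra R R' := ((algebraMap (Localization.Away f) R').comp (algebraMap R _)).toAlgebra
  haveI : IsScalarTower R (Localization.Away f) R' := IsScalarTower.of_algebraMap_eq fun _ => rfl
  letI : Algebra (Localization.Away f) (MonoidAlgebra R' M) := inferInstance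
  haveI : IsScalarTower (Localization.Away f) R' (MonoidAlgebra R' M) := inferInstance
  let η : Localization.Away f ⊗[R] A →ₐ[Localization.Away f] MonoidAlgebra R' M :=
    ((e : R' ⊗[Localization.Away f] (Localization.Away f ⊗[R] A) →ₐ[R'] MonoidAlgebra R' M).restrictScalars
      (Localization.Away f)).comp Algebra.TensorProduct.includeRight
  have hη : Compat R' η := compat_includeRight.comp_bialgHom e.toBialgHom
  let θ : A →ₐ[R] MonoidAlgebra R' M :=
    (η.restrictScalars R).comp Algebra.TensorProduct.includeRight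
  have hθ : Compat R' θ := compat_includeRight.comp hη
  let C := AlgebraTensorModule.cancelBaseChange R (Localization.Away f) R' R' A
  have hL : ∀ z, (Algebra.TensorProduct.lift (Algebra.ofId R' (MonoidAlgebra R' M)) θ fun _ _ => .all _ _) z =
      e (C.symm z) := by
    intro z
    induction z using TensorProduct.induction_on with
    | zero => simp
    | tmul x a =>
      rw [show C.symm (x ⊗ₜ a) = x ⊗ₜ (1 ⊗ₜ a) from rfl,
        show (x ⊗ₜ[Localization.Away f] ((1 : Localization.Away f) ⊗ₜ[R] a)) = x • ((1 : R') ⊗ₜ (1 ⊗ₜ a)) by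
          rw [smul_tmul', smul_eq_mul, mul_one], map_smul, Algebra.TensorProduct.lift_tmul, Algebra.smul_def]
      rfl
    | add x y hx hy => simp only [map_add, hx, hy]
  refine ⟨R', inferInstance, inferInstance, M, inferInstance, θ, ?_, ?_, ⟨?_, ?_, hθ⟩⟩
  · intro N _ _ x hx
    have h1 : (AlgebraTensorModule.cancelBaseChange R (Localization.Away f) R' R' N).symm
        ((1 : R') ⊗ₜ[R] x) = 0 := by rw [hx, map_zero]
    rw [AlgebraTensorModule.cancelBaseChange_symm_tmul, Module.FaithfullyFlat.one_tmul_eq_zero_iff] at h1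
    haveI : IsLocalizedModule (Submonoid.powers f) (TensorProduct.mk R (Localization.Away f) N 1) :=
      (isLocalizedModule_iff_isBaseChange (Submonoid.powers f) (Localization.Away f) _).2
        (TensorProduct.isBaseChange R N (Localization.Away f))
    obtain ⟨⟨_, n, rfl⟩, hc⟩ :=
      (IsLocalizedModule.eq_zero_iff (Submonoid.powers f) (TensorProduct.mk R (Localization.Away f) N 1)).1 h1
    exact ⟨n, hc⟩
  · rw [IsScalarTower.algebraMap_apply R (Localization.Away f) R']
    exact (IsLocalization.Away.algebraMap_isUnit f).map _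
  · exact Module.Flat.trans R (Localization.Away f) R'
  · rw [show ⇑(Algebra.TensorProduct.lift (Algebra.ofId R' (MonoidAlgebra R' M)) θ fun _ _ => .all _ _) =
        e ∘ C.symm from funext hL]
    exact e.bijective.comp C.symm.bijective

/-- To prove that an element of a module vanishes, it is enough to look in every chart. -/
theorem eq_zero_of_chart (h : SGA3b.IsMultType R A) {N : Type u} [AddCommGroup N] [Module R N] (x : N)
    (H : ∀ (R' : Type u) [CommRing R'] [Algebra R R'] (M : Type u) [CommGroup M]
      (θ : A →ₐ[R] MonoidAlgebra R' M), IsChart θ → (1 : R') ⊗ₜ[R] x = 0) : x = 0 := by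
  obtain ⟨s, hs, hc⟩ := exists_chart h
  by_contra hx
  have hne : LinearMap.ker (LinearMap.toSpanSingleton R N x) ≠ ⊤ := by
    intro h'
    have h1 := LinearMap.mem_ker.1 (h' ▸ (Submodule.mem_top : (1 : R) ∈ (⊤ : Submodule R R)))
    exact hx (by simpa using h1)
  obtain ⟨p, hp, hle⟩ := Ideal.exists_le_maximal _ hne
  obtain ⟨f, hf, hfp⟩ : ∃ f ∈ s, f ∉ p := by
    by_contra hcon
    push_neg at hcon
    exact hp.ne_top (top_unique (hs ▸ Ideal.span_le.2 hcon))
  obtain ⟨R', _, _, M, _, θ, hcov, -, hθ⟩ := hc f hf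
  obtain ⟨n, hn⟩ := hcov N x (H R' M θ hθ)
  exact hfp (hp.isPrime.mem_of_pow_mem n (hle (by simpa using hn)))

namespace IsChart

variable {R' : Type u} [CommRing R'] [Algebra R R'] {M : Type u} [CommGroup M] {θ : A →ₐ[R] MonoidAlgebra R' M}

theorem tmul_eq_zero (hθ : IsChart θ) {a : A} (ha : θ a = 0) : (1 : R') ⊗ₜ[R] a = 0 :=
  hθ.bij.1 (by simp [ha])

theorem fg [hft : Algebra.FiniteType R A] [Nontrivial R'] (hθ : IsChart θ) : Group.FG M := by
  have : Algebra.FiniteType R' (R' ⊗[R] A) := inferInstance
  exact MonoidAlgebra.finiteType_iff_group_fg.1 (this.equiv (AlgEquiv.ofBijective _ hθ.bij))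

end IsChart

theorem eq_of_chart (h : SGA3b.IsMultType R A) (x y : A)
    (H : ∀ (R' : Type u) [CommRing R'] [Algebra R R'] (M : Type u) [CommGroup M]
      (θ : A →ₐ[R] MonoidAlgebra R' M), IsChart θ → θ x = θ y) : x = y :=
  sub_eq_zero.1 (eq_zero_of_chart h _ fun R' _ _ M _ θ hθ => hθ.tmul_eq_zero (by rw [map_sub, H R' M θ hθ, sub_self]))

/-- over a local ring some chart covers everything -/
theorem exists_chart_of_isLocalRing [IsLocalRing R] (h : SGA3b.IsMultType R A) :
    ∃ (R' : Type u) (_ : CommRing R') (_ : Algebra R R') (M : Type u) (_ : CommGroup M)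
      (θ : A →ₐ[R] MonoidAlgebra R' M), IsChart θ ∧
        ∀ (N : Type u) [AddCommGroup N] [Module R N] (x : N), (1 : R') ⊗ₜ[R] x = 0 → x = 0 := by
  obtain ⟨s, hs, hc⟩ := exists_chart h
  obtain ⟨f, hf, hu⟩ : ∃ f ∈ s, IsUnit f := by
    by_contra hcon
    push_neg at hcon
    exact (IsLocalRing.maximalIdeal.isMaximal R).ne_top
      (top_unique (hs ▸ Ideal.span_le.2 fun f hf => hcon f hf))
  obtain ⟨R', _, _, M, _, θ, hcov, -, hθ⟩ := hc f hf
  refine ⟨R', inferInstance, inferInstance, M, inferInstance, θ, hθ, fun N _ _ x hx => ?_⟩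
  obtain ⟨n, hn⟩ := hcov N x hx
  exact (hu.pow n).smul_eq_zero.1 hn

end Groth.Agent.MultType
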