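import Groth.Agent.MultType.Coord
import Mathlib.RingTheory.Finiteness.Nakayama
import Mathlib.RingTheory.Adjoin.FG

/-!
Rigidity of homomorphisms out of groups of multiplicative type.
-/

universe u

open TensorProduct WithConv

noncomputable section

namespace Groth.Agent.MultType

variable {R : Type u} [CommRing R] {A : Type u} [CommRing A] [HopfAlgebra R A]
  {C : Type u} [CommRing C] [Bialgebra R C]

/-- the weight components of `φ` and `ψ` commute in every chart -/
def WtCommute (φ ψ : C →ₐc[R] A) : Prop :=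
  ∀ (R' : Type u) [CommRing R'] [Algebra R R'] (M : Type u) [CommGroup M] (θ : A →ₐ[R] MonoidAlgebra R' M),
    IsChart θ → ∀ m, Commute (coord θ φ m) (coord θ ψ m)

theorem wtCommute_trivialHom (φ : C →ₐc[R] A) : WtCommute φ (trivialHom R A C) :=
  fun _ _ _ _ _ _ hθ m => commute_trivialHom hθ φ m

theorem wtCommute_of_isCocomm [Coalgebra.IsCocomm R C] (φ ψ : C →ₐc[R] A) : WtCommute φ ψ :=
  fun _ _ _ _ _ _ _ m => commute_of_isCocomm φ ψ m

theorem eq_of_mod_nilpotent (h : SGA3b.IsMultType R A) {I : Ideal R} (hI : IsNilpotent I) {φ ψ : C →ₐc[R] A}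
    (hc : WtCommute φ ψ) (h0 : ∀ c, φ c - ψ c ∈ Ideal.map (algebraMap R A) I) (c : C) : φ c = ψ c := by
  refine eq_of_chart h _ _ fun R' _ _ M _ θ hθ => ?_
  obtain ⟨n, hn⟩ := hI
  have hk : n ≤ 3 ^ n := (Nat.lt_pow_self (by norm_num)).le
  have h1 := mem_coefIdeal_pow hθ φ ψ (hc R' M θ hθ) (fun c => map_mem_coefIdeal θ I (h0 c)) n c
  rw [← Ideal.map_pow, pow_eq_zero_of_le hk hn, Submodule.zero_eq_bot, Ideal.map_bot] at h1
  rw [← sub_eq_zero, ← map_sub θ]
  refine MonoidAlgebra.coeff_injective (Finsupp.ext fun m => ?_)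
  have h2 := Ideal.mem_bot.1 (mem_coefIdeal.1 h1 m)
  simpa using h2

/-- finitely many values of `φ - ψ` generate all the others -/
theorem exists_span_of_finiteType [hC : Algebra.FiniteType R C] (φ ψ : C →ₐc[R] A) :
    ∃ s : Finset C, ∀ c, φ c - ψ c ∈ Ideal.span ((fun c => φ c - ψ c) '' (s : Set C)) := by
  obtain ⟨s, hs⟩ := hC.out
  refine ⟨s, fun c => ?_⟩
  have hc : c ∈ Algebra.adjoin R (s : Set C) := by rw [hs]; trivial
  induction hc using Algebra.adjoin_induction with
  | mem x hx => exact Ideal.subset_span ⟨x, hx, rfl⟩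
  | algebraMap r => rw [AlgHomClass.commutes φ, AlgHomClass.commutes ψ, sub_self]; exact zero_mem _
  | add x y _ _ hx hy =>
    rw [map_add, map_add, add_sub_add_comm]
    exact add_mem hx hy
  | mul x y _ _ hx hy =>
    rw [map_mul, map_mul, show φ x * φ y - ψ x * ψ y = (φ x - ψ x) * φ y + ψ x * (φ y - ψ y) by ring]
    exact add_mem (Ideal.mul_mem_right _ _ hx) (Ideal.mul_mem_left _ _ hy)

theorem exists_span_of_isNoetherianRing [IsNoetherianRing A] (φ ψ : C →ₐc[R] A) :
    ∃ s : Finset C, ∀ c, φ c - ψ c ∈ Ideal.span ((fun c => φ c - ψ c) '' (s : Set C)) := by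
  classical
  obtain ⟨t, ht, ht'⟩ :=
    (Submodule.fg_span_iff_fg_span_finset_subset (R := A) (Set.range fun c => φ c - ψ c)).1
      (IsNoetherian.noetherian (R := A) _)
  obtain ⟨s, rfl⟩ : ∃ s : Finset C, s.image (fun c => φ c - ψ c) = t := by
    refine ⟨t.attach.image fun x => (ht x.2).choose, ?_⟩
    rw [Finset.image_image]
    refine (Finset.image_congr fun x _ => (ht x.2).choose_spec).trans Finset.attach_image_val
  refine ⟨s, fun c => ?_⟩
  rw [← Finset.coe_image]
  change _ ∈ Submodule.span A _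
  rw [← ht']
  exact Submodule.subset_span ⟨c, rfl⟩

theorem eq_of_mod_maximalIdeal [IsLocalRing R] (h : SGA3b.IsMultType R A) {φ ψ : C →ₐc[R] A}
    (hc : WtCommute φ ψ)
    (hs : ∃ s : Finset C, ∀ c, φ c - ψ c ∈ Ideal.span ((fun c => φ c - ψ c) '' (s : Set C)))
    (h0 : ∀ c, φ c - ψ c ∈ Ideal.map (algebraMap R A) (IsLocalRing.maximalIdeal R)) (c : C) : φ c = ψ c := by
  obtain ⟨R', _, _, M, _, θ, hθ, hcov⟩ := exists_chart_of_isLocalRing h
  obtain ⟨s, hs⟩ := hs
  let d : C → A := fun c => φ c - ψ c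
  let J : Ideal R' := s.sup fun c => content (θ (d c))
  have hJfg : J.FG := Submodule.fg_finset_sup s _ fun c _ => content_fg _
  have hJ : ∀ c, θ (d c) ∈ coefIdeal J := by
    intro c
    have : Ideal.span (d '' (s : Set C)) ≤ (coefIdeal J).comap θ := by
      rw [Ideal.span_le]
      rintro _ ⟨x, hx, rfl⟩
      exact mem_coefIdeal.2 fun m =>
        Finset.le_sup (f := fun c => content (θ (d c))) hx (coeff_mem_content _ m)
    exact this (hs c)
  have hJJ : J ≤ J * J := Finset.sup_le fun x _ => by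
    refine (content_le (mem_coefIdeal_cube hθ φ ψ (hc R' M θ hθ) hJ x)).trans ?_
    rw [mul_assoc]
    exact Ideal.mul_le_right
  have hJm : J ≤ Ideal.map (algebraMap R R') (IsLocalRing.maximalIdeal R) :=
    Finset.sup_le fun x _ => content_le (map_mem_coefIdeal θ _ (h0 x))
  obtain ⟨r, hr, hrJ⟩ := Submodule.exists_sub_one_mem_and_smul_eq_zero_of_fg_of_le_smul J J hJfg hJJ
  -- `r` kills `θ (d c)`
  have hrd : θ (d c) * algebraMap R' (MonoidAlgebra R' M) r = 0 := by
    refine MonoidAlgebra.coeff_injective (Finsupp.ext fun m => ?_)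
    rw [mul_comm, ← Algebra.smul_def]
    simpa using hrJ _ (mem_coefIdeal.1 (hJ c) m)
  have h1 : r ⊗ₜ[R] d c = 0 := by
    apply hθ.bij.1
    simpa [Algebra.ofId_apply, mul_comm, MonoidAlgebra.algebraMap_def] using hrd
  -- so the annihilator of `d c` is the whole ring
  rw [← sub_eq_zero]
  by_contra hne
  let Ann := LinearMap.ker (LinearMap.toSpanSingleton R A (d c))
  have hle : Ann ≤ IsLocalRing.maximalIdeal R := IsLocalRing.le_maximalIdeal fun htop => hne (by
    have hk := LinearMap.mem_ker.1 (htop ▸ (Submodule.mem_top : (1 : R) ∈ (⊤ : Submodule R R)))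
    rwa [LinearMap.toSpanSingleton_apply, one_smul] at hk)
  haveI := hθ.flat
  have hex := Module.Flat.lTensor_exact (M := R') (LinearMap.exact_subtype_ker_map (LinearMap.toSpanSingleton R A (d c)))
  obtain ⟨z, hz⟩ := (hex (r ⊗ₜ 1)).1 (by simpa using h1)
  let lT : R' ⊗[R] R →ₗ[R] R' := (TensorProduct.rid R R').toLinearMap
  have hr' : r ∈ Ideal.map (algebraMap R R') (IsLocalRing.maximalIdeal R) := by
    have e : lT (LinearMap.lTensor R' Ann.subtype z) = r := by rw [hz]; simp [lT]
    rw [← e]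
    clear hz e
    induction z using TensorProduct.induction_on with
    | zero => simp
    | tmul x a =>
      simp only [lT, LinearMap.lTensor_tmul, Submodule.coe_subtype, LinearEquiv.coe_coe, TensorProduct.rid_tmul,
        Algebra.smul_def]
      exact Ideal.mul_mem_right _ _ (Ideal.mem_map_of_mem _ (hle a.2))
    | add x y hx hy => rw [map_add, map_add]; exact add_mem hx hy
  have h2 : (1 : R') ∈ Ideal.map (algebraMap R R') (IsLocalRing.maximalIdeal R) := by
    simpa using sub_mem hr' (hJm hr)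
  let q : R' ⊗[R] (R ⧸ IsLocalRing.maximalIdeal R) := (1 : R') ⊗ₜ 1
  have hq : q = 0 := by
    have : ∀ x ∈ Ideal.map (algebraMap R R') (IsLocalRing.maximalIdeal R),
        (x ⊗ₜ[R] (1 : R ⧸ IsLocalRing.maximalIdeal R)) = 0 := by
      intro x hx
      induction hx using Submodule.span_induction with
      | mem y hy =>
        obtain ⟨a, ha, rfl⟩ := hy
        rw [Algebra.algebraMap_eq_smul_one, smul_tmul, ← Algebra.algebraMap_eq_smul_one,
          Ideal.Quotient.algebraMap_eq, Ideal.Quotient.eq_zero_iff_mem.2 ha, tmul_zero]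
      | zero => exact zero_tmul _ _
      | add y z _ _ hy hz => rw [add_tmul, hy, hz, add_zero]
      | smul a y _ hy =>
        have := congrArg (fun t => a • t) hy
        simpa [smul_tmul'] using this
    exact this 1 h2
  exact (IsLocalRing.maximalIdeal.isMaximal R).ne_top
    ((Ideal.eq_top_iff_one _).2 (Ideal.Quotient.eq_zero_iff_mem.1 (hcov _ _ hq)))

end Groth.Agent.MultType
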