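import Groth.Agent.MultType.Torsion
import Mathlib.RingTheory.Ideal.IdempotentFG

/-!
Subgroups of multiplicative type of diagonalisable groups over a connected base.
-/

universe u

open TensorProduct WithConv

noncomputable section

namespace Groth.Agent.MultType

variable {R : Type u} [CommRing R] {R' : Type u} [CommRing R'] [Algebra R R']

theorem tmul_quotient_eq_zero {I : Ideal R} {x : R'} (hx : x ∈ Ideal.map (algebraMap R R') I) :
    x ⊗ₜ[R] (1 : R ⧸ I) = 0 := by
  induction hx using Submodule.span_induction with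
  | mem y hy =>
    obtain ⟨a, ha, rfl⟩ := hy
    rw [Algebra.algebraMap_eq_smul_one, smul_tmul, ← Algebra.algebraMap_eq_smul_one,
      Ideal.Quotient.algebraMap_eq, Ideal.Quotient.eq_zero_iff_mem.2 ha, tmul_zero]
  | zero => exact zero_tmul _ _
  | add y z _ _ hy hz => rw [add_tmul, hy, hz, add_zero]
  | smul a y _ hy =>
    have := congrArg (fun t => a • t) hy
    simpa [smul_tmul'] using this

theorem one_tmul_mk_eq_zero {I : Ideal R} {r : R} (hr : algebraMap R R' r ∈ Ideal.map (algebraMap R R') I) :
    (1 : R') ⊗ₜ[R] Ideal.Quotient.mk I r = 0 := by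
  rw [← tmul_quotient_eq_zero hr, Algebra.algebraMap_eq_smul_one, smul_tmul, ← Algebra.algebraMap_eq_smul_one,
    Ideal.Quotient.algebraMap_eq]

theorem mem_map_ann (hflat : Module.Flat R R') {N : Type u} [AddCommGroup N] [Module R N] (x : N) {r : R'}
    (h : r ⊗ₜ[R] x = 0) :
    r ∈ Ideal.map (algebraMap R R') (LinearMap.ker (LinearMap.toSpanSingleton R N x)) := by
  haveI := hflat
  have hex := Module.Flat.lTensor_exact (M := R') (LinearMap.exact_subtype_ker_map (LinearMap.toSpanSingleton R N x))
  obtain ⟨z, hz⟩ := (hex (r ⊗ₜ 1)).1 (by simpa using h)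
  have e : TensorProduct.rid R R' (LinearMap.lTensor R' (LinearMap.ker (LinearMap.toSpanSingleton R N x)).subtype z) = r := by
    rw [hz]; simp
  rw [← e]
  clear hz e
  induction z using TensorProduct.induction_on with
  | zero => simp
  | tmul y a =>
    simp only [LinearMap.lTensor_tmul, Submodule.coe_subtype, TensorProduct.rid_tmul, Algebra.smul_def]
    exact Ideal.mul_mem_right _ _ (Ideal.mem_map_of_mem _ a.2)
  | add x y hx hy => rw [map_add, map_add]; exact add_mem hx hy

variable {M : Type u} [CommGroup M]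

theorem coeff_mul_coeff_of_groupLike {y : MonoidAlgebra R' M} (hy : IsGroupLikeElem R' y) (p q : M)
    [Decidable (p = q)] : y.coeff p * y.coeff q = if p = q then y.coeff p else 0 := by
  have h := coeff₂_comul p q y
  rw [hy.comul_eq_tmul_self] at h
  simp only [coeff₂, LinearMap.coe_comp, Function.comp_apply, TensorProduct.map_tmul, coeffₗ_apply,
    LinearMap.mul'_apply] at h
  rw [h]
  split_ifs <;> rfl

theorem smul_coeff_groupLike {y : MonoidAlgebra R' M} (hy : IsGroupLikeElem R' y) (p : M) :
    y.coeff p • y = MonoidAlgebra.single p (y.coeff p) := by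
  classical
  refine MonoidAlgebra.coeff_injective (Finsupp.ext fun q => ?_)
  simp only [MonoidAlgebra.coeff_smul, Finsupp.smul_apply, smul_eq_mul, MonoidAlgebra.coeff_single,
    Finsupp.single_apply, coeff_mul_coeff_of_groupLike hy]

/-- a group-like unit different from `1` has no component in weight `1`, over a connected base -/
theorem coeff_one_eq_zero {B : Type u} [CommRing B] [HopfAlgebra R B] (h : SGA3b.IsMultType R B)
    (hconn : ∀ e : R, IsIdempotentElem e → e = 0 ∨ e = 1) {x : B} (hx : IsGroupLikeElem R x) (hne : x ≠ 1)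
    {θ : B →ₐ[R] MonoidAlgebra R' M} (hθ : IsChart θ) : (θ x).coeff 1 = 0 := by
  classical
  let a : Ideal R := LinearMap.ker (LinearMap.toSpanSingleton R B (x - 1))
  have key : ∀ (R' : Type u) [CommRing R'] [Algebra R R'] (M : Type u) [CommGroup M]
      (θ : B →ₐ[R] MonoidAlgebra R' M), IsChart θ → (θ x).coeff 1 ∈ Ideal.map (algebraMap R R') a ∧
        ∀ r ∈ a, algebraMap R R' r ∈ Ideal.span {(θ x).coeff 1} := by
    intro R' _ _ M _ θ hθ
    have hg : IsGroupLikeElem R' (θ x) := hθ.compat.isGroupLikeElem hx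
    refine ⟨mem_map_ann hθ.flat _ (hθ.bij.1 ?_), fun r hr => ?_⟩
    · rw [map_zero, Algebra.TensorProduct.lift_tmul, Algebra.ofId_apply, ← Algebra.smul_def, map_sub θ, map_one θ,
        smul_sub, smul_coeff_groupLike hg, MonoidAlgebra.one_def, MonoidAlgebra.smul_single, smul_eq_mul, mul_one,
        sub_self]
    · have hr' : r • (x - 1) = 0 := hr
      have h1 : algebraMap R R' r • (θ x - 1) = 0 := by
        rw [algebraMap_smul, ← map_one θ, ← map_sub θ, ← map_smul θ, hr', map_zero θ]
      replace h1 := congrArg (fun y => y.coeff (1 : M)) h1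
      simp only [MonoidAlgebra.coeff_smul, Finsupp.smul_apply, MonoidAlgebra.coeff_sub, Finsupp.sub_apply,
        MonoidAlgebra.coeff_one_one, MonoidAlgebra.coeff_zero, Finsupp.zero_apply, smul_eq_mul, mul_sub, mul_one,
        sub_eq_zero] at h1
      rw [← h1]
      exact Ideal.mul_mem_left _ _ (Ideal.mem_span_singleton_self _)
  have haa : a * a = a := le_antisymm Ideal.mul_le_left fun r hr => by
    rw [← Ideal.Quotient.eq_zero_iff_mem]
    refine eq_zero_of_chart h _ fun R' _ _ M _ θ hθ => one_tmul_mk_eq_zero ?_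
    have hg : IsGroupLikeElem R' (θ x) := hθ.compat.isGroupLikeElem hx
    rw [Ideal.map_mul]
    obtain ⟨s, hs⟩ := Ideal.mem_span_singleton'.1 ((key R' M θ hθ).2 r hr)
    rw [← hs, show (θ x).coeff 1 = (θ x).coeff 1 * (θ x).coeff 1 by rw [coeff_mul_coeff_of_groupLike hg, if_pos rfl]]
    exact Ideal.mul_mem_left _ _ (Ideal.mul_mem_mul (key R' M θ hθ).1 (key R' M θ hθ).1)
  have hfg : a.FG := by
    obtain ⟨s, hs, hc⟩ := exists_chart h
    choose Rf _ _ Mf _ θf hcov _ hθf using hc
    have hfin : ∀ (f : R) (hf : f ∈ s), ∃ T : Finset R, (T : Set R) ⊆ (a : Set R) ∧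
        (θf f hf x).coeff 1 ∈ Ideal.map (algebraMap R (Rf f hf)) (Ideal.span (T : Set R)) := by
      intro f hf
      obtain ⟨T, hT, hT'⟩ := Submodule.mem_span_finite_of_mem_span (key _ _ _ (hθf f hf)).1
      choose g hg hg' using fun y : T => hT y.2
      refine ⟨Finset.univ.image g, by simpa [Set.range_subset_iff] using hg, ?_⟩
      refine Submodule.span_le.2 ?_ hT'
      intro y hy
      rw [show y = algebraMap R _ (g ⟨y, hy⟩) from (hg' ⟨y, hy⟩).symm]
      exact Ideal.mem_map_of_mem _ (Ideal.subset_span (by simp))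
    choose T hT hT' using hfin
    refine ⟨s.attach.biUnion fun f => T f.1 f.2, le_antisymm ?_ fun r hr => ?_⟩
    · rw [Submodule.span_le]
      intro y hy
      obtain ⟨f, -, hy⟩ := Finset.mem_biUnion.1 hy
      exact hT _ _ hy
    · rw [← Submodule.Quotient.mk_eq_zero]
      refine eq_zero_of_span_eq_top hs fun f hf => hcov f hf _ _ (one_tmul_mk_eq_zero ?_)
      have hle : Ideal.span {(θf f hf x).coeff 1} ≤ Ideal.map (algebraMap R (Rf f hf))
          (Ideal.span ((s.attach.biUnion fun f => T f.1 f.2 : Finset R) : Set R)) := by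
        rw [Ideal.span_le, Set.singleton_subset_iff]
        refine Ideal.map_mono (Ideal.span_mono fun y hy => ?_) (hT' f hf)
        exact Finset.mem_biUnion.2 ⟨⟨f, hf⟩, Finset.mem_attach _ _, hy⟩
      exact hle ((key _ _ _ (hθf f hf)).2 r hr)
  obtain ⟨e, he, hea⟩ := (Ideal.isIdempotentElem_iff_of_fg a hfg).1 haa
  rcases hconn e he with rfl | rfl
  · have h1 := (key R' M θ hθ).1
    rw [hea] at h1
    simpa using h1
  · exfalso
    have h1 : (1 : R) ∈ a := by rw [hea]; exact Submodule.mem_span_singleton_self _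
    have h2 : (1 : R) • (x - 1) = 0 := h1
    rw [one_smul, sub_eq_zero] at h2
    exact hne h2

theorem isDiag_of_groupLike_of_connected {B : Type u} [CommRing B] [HopfAlgebra R B] (h : SGA3b.IsMultType R B)
    (hconn : ∀ e : R, IsIdempotentElem e → e = 0 ∨ e = 1) {G : Type u} [CommGroup G] (ζ : G →* B)
    (hζ : ∀ g, IsGroupLikeElem R (ζ g)) (hs : Submodule.span R (Set.range ζ) = ⊤) : SGA3b.IsDiag R B := by
  classical
  let N := G ⧸ ζ.toHomUnits.ker
  let z : N →* B := (Units.coeHom B).comp (QuotientGroup.kerLift ζ.toHomUnits)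
  have hz : ∀ n, IsGroupLikeElem R (z n) := fun n => QuotientGroup.induction_on n hζ
  have hinj : Function.Injective z := Units.val_injective.comp (QuotientGroup.kerLift_injective _)
  refine ⟨N, inferInstance, ⟨(BialgEquiv.ofBijective (liftGroupLike z hz) ⟨?_, ?_⟩).symm⟩⟩
  · rw [injective_iff_map_eq_zero]
    intro y hy
    refine MonoidAlgebra.coeff_injective (Finsupp.ext fun g => ?_)
    rw [MonoidAlgebra.coeff_zero, Finsupp.zero_apply]
    refine eq_zero_of_chart h (y.coeff g) fun R' _ _ P _ θ hθ => ?_
    have hG : ∀ k, IsGroupLikeElem R' (θ (z k)) := fun k => hθ.compat.isGroupLikeElem (hz k)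
    have horth : ∀ k p, k ≠ g → (θ (z g)).coeff p * (θ (z k)).coeff p = 0 := by
      intro k p hk
      have h1 : (θ (z g)).coeff p • θ (z k) = θ (z (k * g⁻¹)) * MonoidAlgebra.single p ((θ (z g)).coeff p) := by
        rw [← smul_coeff_groupLike (hG g), Algebra.mul_smul_comm, ← map_mul θ, ← map_mul z, inv_mul_cancel_right]
      have h2 := congrArg (fun w => w.coeff (1 * p)) h1
      rw [MonoidAlgebra.coeff_mul_single_eq_coeff_mul (1 : P) (fun m' _ => mul_left_inj p), coeff_one_eq_zero h hconn
        (hz _) (fun h' => hk (by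
          have := hinj (h'.trans z.map_one.symm)
          rwa [mul_inv_eq_one] at this)) hθ, zero_mul] at h2
      simpa using h2
    have hcoef : ∀ p, algebraMap R R' (y.coeff g) * (θ (z g)).coeff p = 0 := by
      intro p
      have h1 : ∀ w : MonoidAlgebra R N, (θ (z g)).coeff p * (θ (liftGroupLike z hz w)).coeff p =
          algebraMap R R' (w.coeff g) * (θ (z g)).coeff p := by
        intro w
        induction w using MonoidAlgebra.induction_linear with
        | zero => simp
        | single k r =>
          rw [liftGroupLike_single, map_smul, MonoidAlgebra.coeff_smul, Finsupp.smul_apply, MonoidAlgebra.coeff_single,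
            Algebra.smul_def, Finsupp.single_apply]
          split_ifs with hk
          · subst hk
            rw [mul_left_comm, coeff_mul_coeff_of_groupLike (hG k), if_pos rfl]
          · rw [map_zero, zero_mul, mul_left_comm, horth k p hk, mul_zero]
        | add a b ha hb =>
          rw [map_add, map_add, MonoidAlgebra.coeff_add, Finsupp.add_apply, mul_add, ha, hb, MonoidAlgebra.coeff_add,
            Finsupp.add_apply, map_add, add_mul]
      rw [← h1, hy]
      simp
    have h0 : algebraMap R R' (y.coeff g) • θ (z g) = 0 :=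
      MonoidAlgebra.coeff_injective (Finsupp.ext fun p => by simpa [Algebra.smul_def] using hcoef p)
    have h3 := congrArg (fun w => (w * θ (z g⁻¹)).coeff 1) h0
    simp only [smul_mul_assoc, ← map_mul, mul_inv_cancel, map_one, zero_mul, MonoidAlgebra.coeff_smul,
      Finsupp.smul_apply, MonoidAlgebra.coeff_one_one, smul_eq_mul, mul_one, MonoidAlgebra.coeff_zero,
      Finsupp.zero_apply] at h3
    apply (TensorProduct.rid R R').injective
    simpa [Algebra.smul_def] using h3
  · intro q
    have : (⊤ : Submodule R B) ≤ LinearMap.range (liftGroupLike z hz : MonoidAlgebra R N →ₐ[R] B).toLinearMap := by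
      rw [← hs, Submodule.span_le]
      rintro _ ⟨g, rfl⟩
      exact ⟨MonoidAlgebra.single (QuotientGroup.mk g) 1, by simp [z]; rfl⟩
    obtain ⟨x, hx⟩ := this (Submodule.mem_top : q ∈ _)
    exact ⟨x, hx⟩

end Groth.Agent.MultType
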