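import Groth.Agent.MultType.Basic

/-!
Homomorphisms out of a group of multiplicative type as orthogonal idempotents of a convolution algebra.
-/

universe u

open TensorProduct WithConv

noncomputable section

namespace Groth.Agent.MultType

section CoefIdeal

variable {R' : Type u} [CommRing R'] {M : Type u} [CommGroup M]

/-- elements of `R'[M]` with all coefficients in `J` -/
def coefIdeal (J : Ideal R') : Ideal (MonoidAlgebra R' M) :=
  RingHom.ker (MonoidAlgebra.mapRingHom M (Ideal.Quotient.mk J))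

theorem mem_coefIdeal {J : Ideal R'} {x : MonoidAlgebra R' M} : x ∈ coefIdeal J ↔ ∀ m, x.coeff m ∈ J := by
  rw [coefIdeal, RingHom.mem_ker, ← MonoidAlgebra.coeff_inj, Finsupp.ext_iff]
  simp [Ideal.Quotient.eq_zero_iff_mem]

/-- the ideal generated by the coefficients of `x` -/
def content (x : MonoidAlgebra R' M) : Ideal R' := Ideal.span (x.coeff '' x.coeff.support)

theorem content_fg (x : MonoidAlgebra R' M) : (content x).FG :=
  Submodule.fg_span (x.coeff.support.finite_toSet.image _)

theorem coeff_mem_content (x : MonoidAlgebra R' M) (m : M) : x.coeff m ∈ content x := by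
  by_cases hm : x.coeff m = 0
  · rw [hm]; exact zero_mem _
  · exact Ideal.subset_span ⟨m, Finsupp.mem_support_iff.2 hm, rfl⟩

theorem content_le {J : Ideal R'} {x : MonoidAlgebra R' M} (h : x ∈ coefIdeal J) : content x ≤ J := by
  rw [content, Ideal.span_le]
  rintro _ ⟨m, -, rfl⟩
  exact mem_coefIdeal.1 h m

/-- the `m`-th coefficient -/
def coeffₗ (m : M) : MonoidAlgebra R' M →ₗ[R'] R' where
  toFun x := x.coeff m
  map_add' x y := by simp
  map_smul' r x := by simp

@[simp] theorem coeffₗ_apply (m : M) (x : MonoidAlgebra R' M) : coeffₗ m x = x.coeff m := rfl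

/-- reads off the coefficient of `[m] ⊗ [n]` -/
def coeff₂ (m n : M) : MonoidAlgebra R' M ⊗[R'] MonoidAlgebra R' M →ₗ[R'] R' :=
  LinearMap.mul' R' R' ∘ₗ TensorProduct.map (coeffₗ m) (coeffₗ n)

open scoped Classical in
theorem coeff₂_comul (m n : M) (x : MonoidAlgebra R' M) :
    coeff₂ m n (Coalgebra.comul (R := R') x) = if m = n then x.coeff m else 0 := by
  induction x using MonoidAlgebra.induction_linear with
  | zero => simp
  | single a r =>
    simp [coeff₂, MonoidAlgebra.comul_single, Finsupp.single_apply]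
    split_ifs <;> simp_all
  | add x y hx hy =>
    rw [map_add, map_add, hx, hy]
    split_ifs <;> simp

end CoefIdeal

variable {R : Type u} [CommRing R] {A : Type u} [CommRing A] [HopfAlgebra R A]
  {R' : Type u} [CommRing R'] [Algebra R R'] {M : Type u} [CommGroup M] {θ : A →ₐ[R] MonoidAlgebra R' M}
  {C : Type u} [CommRing C] [Bialgebra R C]

/-- the weight `m` component of a homomorphism -/
def coord (θ : A →ₐ[R] MonoidAlgebra R' M) (φ : C →ₐc[R] A) (m : M) : WithConv (C →ₗ[R] R') :=
  toConv ((coeffₗ m).restrictScalars R ∘ₗ θ.toLinearMap ∘ₗ (φ : C →ₐ[R] A).toLinearMap)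

@[simp] theorem coord_apply (φ : C →ₐc[R] A) (m : M) (c : C) : coord θ φ m c = (θ (φ c)).coeff m := rfl

theorem coord_mul_coord (hθ : IsChart θ) (φ : C →ₐc[R] A) (m n : M) [Decidable (m = n)] :
    coord θ φ m * coord θ φ n = if m = n then coord θ φ m else 0 := by
  apply WithConv.ofConv_injective
  apply LinearMap.ext
  intro c
  have h1 : (coord θ φ m * coord θ φ n) c = coeff₂ m n (Coalgebra.comul (R := R') (θ (φ c))) := by
    rw [LinearMap.convMul_apply, hθ.compat.comul, ← CoalgHomClass.map_comp_comul_apply φ c]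
    generalize Coalgebra.comul (R := R) c = z
    induction z using TensorProduct.induction_on with
    | zero => simp
    | tmul x y => simp [coord, coeff₂]
    | add x y hx hy => simp only [map_add, hx, hy]
  rw [coeff₂_comul] at h1
  change (coord θ φ m * coord θ φ n) c = _
  rw [h1]
  split_ifs <;> simp

/-- if two linear forms take values in `I` and `J`, their product takes values in `I * J` -/
theorem convMul_mem {f g : WithConv (C →ₗ[R] R')} {I J : Ideal R'} (hf : ∀ c, f c ∈ I) (hg : ∀ c, g c ∈ J) (c : C) :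
    (f * g) c ∈ I * J := by
  rw [(Coalgebra.Repr.arbitrary R c).convMul_apply]
  exact Submodule.sum_mem _ fun i _ => Ideal.mul_mem_mul (hf _) (hg _)

theorem sub_pow_three {S : Type u} [Ring S] {p q : S} (hp : p * p = p) (hq : q * q = q) (hc : Commute p q) :
    (p - q) * (p - q) * (p - q) = p - q := by
  have h : q * p = p * q := hc.eq.symm
  have h1 : p * (p * q) = p * q := by rw [← mul_assoc, hp]
  have h2 : p * q * q = p * q := by rw [mul_assoc, hq]
  have h3 : p * q * p = p * q := by rw [mul_assoc, h, h1]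
  have h4 : q * (p * q) = p * q := by rw [← mul_assoc, h, h2]
  simp only [sub_mul, mul_sub, hp, hq, h, h1, h2, h3, h4]
  abel

theorem coord_convOne (hθ : IsChart θ) (m : M) [Decidable (m = 1)] :
    (toConv ((coeffₗ m).restrictScalars R ∘ₗ θ.toLinearMap ∘ₗ Algebra.linearMap R A ∘ₗ Coalgebra.counit) :
      WithConv (C →ₗ[R] R')) = if m = 1 then 1 else 0 := by
  apply WithConv.ofConv_injective
  apply LinearMap.ext
  intro c
  split_ifs with hm
  · subst hm; simp
  · simp [MonoidAlgebra.algebraMap_def, Finsupp.single_eq_of_ne, hm, Finsupp.single_apply, Ne.symm hm]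

/-- If `φ ≡ ψ` modulo `J` in the chart and the weight components commute, then `φ ≡ ψ` modulo `J³`. -/
theorem mem_coefIdeal_cube (hθ : IsChart θ) (φ ψ : C →ₐc[R] A)
    (hc : ∀ m, Commute (coord θ φ m) (coord θ ψ m)) {J : Ideal R'}
    (hJ : ∀ c, θ (φ c - ψ c) ∈ coefIdeal J) (c : C) : θ (φ c - ψ c) ∈ coefIdeal (J * J * J) := by
  classical
  refine mem_coefIdeal.2 fun m => ?_
  have hd : ∀ c, (coord θ φ m - coord θ ψ m) c = (θ (φ c - ψ c)).coeff m := fun c => by simp
  have hJ' : ∀ c, (coord θ φ m - coord θ ψ m) c ∈ J := fun c => by rw [hd]; exact mem_coefIdeal.1 (hJ c) m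
  rw [← hd, ← sub_pow_three (by rw [coord_mul_coord hθ, if_pos rfl]) (by rw [coord_mul_coord hθ, if_pos rfl]) (hc m)]
  exact convMul_mem (convMul_mem hJ' hJ') hJ' c

theorem mem_coefIdeal_pow (hθ : IsChart θ) (φ ψ : C →ₐc[R] A)
    (hc : ∀ m, Commute (coord θ φ m) (coord θ ψ m)) {J : Ideal R'}
    (hJ : ∀ c, θ (φ c - ψ c) ∈ coefIdeal J) (k : ℕ) (c : C) : θ (φ c - ψ c) ∈ coefIdeal (J ^ 3 ^ k) := by
  induction k generalizing c with
  | zero => simpa using hJ c
  | succ k ih =>
    have := mem_coefIdeal_cube hθ φ ψ hc ih c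
    rwa [show J ^ 3 ^ (k + 1) = J ^ 3 ^ k * J ^ 3 ^ k * J ^ 3 ^ k by rw [← pow_add, ← pow_add]; congr 1; ring]

/-- the trivial homomorphism -/
def trivialHom (R A C : Type u) [CommRing R] [CommRing A] [HopfAlgebra R A] [CommRing C] [Bialgebra R C] : C →ₐc[R] A :=
  (Bialgebra.unitBialgHom R A).comp (Bialgebra.counitBialgHom R C)

@[simp] theorem trivialHom_apply (c : C) : trivialHom R A C c = algebraMap R A (Coalgebra.counit c) := rfl

theorem commute_trivialHom (hθ : IsChart θ) (φ : C →ₐc[R] A) (m : M) :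
    Commute (coord θ φ m) (coord θ (trivialHom R A C) m) := by
  classical
  have : coord θ (trivialHom R A C) m = if m = 1 then 1 else 0 := by
    rw [← coord_convOne hθ]; rfl
  rw [this]
  split_ifs
  exacts [Commute.one_right _, Commute.zero_right _]

theorem commute_of_isCocomm [Coalgebra.IsCocomm R C] (φ ψ : C →ₐc[R] A) (m : M) :
    Commute (coord θ φ m) (coord θ ψ m) :=
  mul_comm _ _

/-- elements of `I A` have coefficients in `I R'` -/
theorem map_mem_coefIdeal (θ : A →ₐ[R] MonoidAlgebra R' M) (I : Ideal R) {x : A}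
    (hx : x ∈ Ideal.map (algebraMap R A) I) : θ x ∈ coefIdeal (Ideal.map (algebraMap R R') I) := by
  have h : Ideal.map (algebraMap R A) I ≤ (coefIdeal (Ideal.map (algebraMap R R') I)).comap θ := by
    refine Ideal.map_le_iff_le_comap.2 fun r hr => ?_
    rw [Ideal.mem_comap, Ideal.mem_comap]
    rw [AlgHom.commutes]
    refine mem_coefIdeal.2 fun m => ?_
    classical
    simp [MonoidAlgebra.algebraMap_def, Finsupp.single_apply]
    split_ifs
    · exact Ideal.mem_map_of_mem _ hr
    · exact zero_mem _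
  exact h hx

theorem sub_mem_of_tmul_eq {B : Type u} [CommRing B] [Algebra R B] (I : Ideal R) {x y : B}
    (h : (1 : R ⧸ I) ⊗ₜ[R] x = (1 : R ⧸ I) ⊗ₜ[R] y) : x - y ∈ Ideal.map (algebraMap R B) I := by
  let J := Ideal.map (algebraMap R B) I
  let q : R ⧸ I →ₐ[R] B ⧸ J := Ideal.Quotient.liftₐ I (Algebra.ofId R _) fun r hr => by
    rw [Algebra.ofId_apply, IsScalarTower.algebraMap_apply R B (B ⧸ J), Ideal.Quotient.algebraMap_eq,
      Ideal.Quotient.eq_zero_iff_mem]
    exact Ideal.mem_map_of_mem _ hr
  have := congrArg (Algebra.TensorProduct.lift q (Ideal.Quotient.mkₐ R J) fun _ _ => .all _ _) h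
  simpa [Ideal.Quotient.eq] using this

end Groth.Agent.MultType
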