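import Groth.Agent.MultType.Coord

/-!
A monomorphism out of a group of multiplicative type is a closed immersion.
-/

universe u

open TensorProduct WithConv

noncomputable section

namespace Groth.Agent.MultType

variable {R : Type u} [CommRing R] {A : Type u} [CommRing A] [HopfAlgebra R A]
  {R' : Type u} [CommRing R'] [Algebra R R'] {M : Type u} [CommGroup M] {θ : A →ₐ[R] MonoidAlgebra R' M}
  {C : Type u} [CommRing C] [HopfAlgebra R C]

/-- `[m] ↦ [m⁻¹]` -/
def invHom (R' M : Type u) [CommRing R'] [CommGroup M] : MonoidAlgebra R' M →ₐ[R'] MonoidAlgebra R' M :=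
  MonoidAlgebra.mapDomainAlgHom R' R' (invMonoidHom : M →* M)

theorem invHom_single (m : M) (r : R') : invHom R' M (MonoidAlgebra.single m r) = MonoidAlgebra.single m⁻¹ r :=
  MonoidAlgebra.mapDomain_single

/-- `x ⊗ y ↦ x⁻¹ y` -/
def divMul (R' M : Type u) [CommRing R'] [CommGroup M] :
    MonoidAlgebra R' M ⊗[R'] MonoidAlgebra R' M →ₗ[R'] MonoidAlgebra R' M :=
  LinearMap.mul' R' _ ∘ₗ TensorProduct.map (invHom R' M).toLinearMap LinearMap.id

theorem divMul_comul (x : MonoidAlgebra R' M) :
    divMul R' M (Coalgebra.comul (R := R') x) = algebraMap R' _ (Coalgebra.counit (R := R') x) := by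
  induction x using MonoidAlgebra.induction_linear with
  | zero => simp
  | single a r => simp [divMul, MonoidAlgebra.comul_single, invHom_single, MonoidAlgebra.algebraMap_def]
  | add x y hx hy => rw [map_add, map_add, map_add, map_add, hx, hy]

theorem invHom_comp (hθ : IsChart θ) (φ : C →ₐc[R] A) (c : C) :
    invHom R' M (θ (φ c)) = θ (φ (HopfAlgebra.antipode R c)) := by
  let f : WithConv (C →ₗ[R] MonoidAlgebra R' M) := toConv (θ.toLinearMap ∘ₗ (φ : C →ₐ[R] A).toLinearMap)
  let g : WithConv (C →ₗ[R] MonoidAlgebra R' M) :=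
    toConv ((invHom R' M).toLinearMap.restrictScalars R ∘ₗ θ.toLinearMap ∘ₗ (φ : C →ₐ[R] A).toLinearMap)
  let s : WithConv (C →ₗ[R] MonoidAlgebra R' M) :=
    toConv (θ.toLinearMap ∘ₗ (φ : C →ₐ[R] A).toLinearMap ∘ₗ HopfAlgebra.antipode R)
  have hgf : g * f = 1 := by
    apply WithConv.ofConv_injective
    apply LinearMap.ext
    intro c
    have h1 : (g * f) c = divMul R' M (Coalgebra.comul (R := R') (θ (φ c))) := by
      rw [LinearMap.convMul_apply, hθ.compat.comul, ← CoalgHomClass.map_comp_comul_apply φ c]
      generalize Coalgebra.comul (R := R) c = z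
      induction z using TensorProduct.induction_on with
      | zero => simp
      | tmul x y => simp [f, g, divMul]
      | add x y hx hy => simp only [map_add, hx, hy]
    change (g * f) c = _
    rw [h1, divMul_comul, hθ.compat.counit]
    simp [← IsScalarTower.algebraMap_apply]
  have hfs : f * s = 1 := by
    apply WithConv.ofConv_injective
    apply LinearMap.ext
    intro c
    let 𝓡 := Coalgebra.Repr.arbitrary R c
    change (f * s) c = _
    rw [𝓡.convMul_apply]
    simp only [f, s, LinearMap.coe_comp, Function.comp_apply, AlgHom.toLinearMap_apply, BialgHom.coe_toAlgHom]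
    simp only [← map_mul, ← map_sum, HopfAlgebra.sum_mul_antipode_eq_algebraMap_counit]
    simp [MonoidAlgebra.algebraMap_def, AlgHomClass.commutes φ]
  have := left_inv_eq_right_inv hgf hfs
  exact congrFun (congrArg (fun h : WithConv (C →ₗ[R] MonoidAlgebra R' M) => ⇑h) this) c

/-- `x ⊗ y ↦ y_m x` -/
def pick (m : M) : MonoidAlgebra R' M ⊗[R'] MonoidAlgebra R' M →ₗ[R'] MonoidAlgebra R' M :=
  (TensorProduct.rid R' _).toLinearMap ∘ₗ TensorProduct.map LinearMap.id (coeffₗ m)

open scoped Classical in
theorem pick_comul (m : M) (x : MonoidAlgebra R' M) :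
    pick m (Coalgebra.comul (R := R') x) = MonoidAlgebra.single m (x.coeff m) := by
  induction x using MonoidAlgebra.induction_linear with
  | zero => simp
  | single a r =>
    simp [pick, MonoidAlgebra.comul_single, Finsupp.single_apply]
    split_ifs <;> simp_all
  | add x y hx hy => rw [map_add, map_add, hx, hy, ← MonoidAlgebra.single_add, MonoidAlgebra.coeff_add]; rfl

theorem surjective_of_mono (h : SGA3b.IsMultType R A) (φ : C →ₐc[R] A)
    (hε : ∀ a, a - algebraMap R A (Coalgebra.counit a) ∈
      Ideal.map φ (RingHom.ker (Bialgebra.counitAlgHom R C))) : Function.Surjective φ := by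
  intro a
  suffices hx : Submodule.Quotient.mk (p := LinearMap.range (φ : C →ₐ[R] A).toLinearMap) a = 0 by
    exact (Submodule.Quotient.mk_eq_zero _).1 hx
  refine eq_zero_of_chart h _ fun R' _ _ M _ θ hθ => ?_
  let L := Algebra.TensorProduct.lift (Algebra.ofId R' (MonoidAlgebra R' M)) θ fun _ _ => .all _ _
  let LC := Algebra.TensorProduct.lift (Algebra.ofId R' (MonoidAlgebra R' M)) (θ.comp (φ : C →ₐ[R] A))
    fun _ _ => .all _ _
  let P : Subalgebra R' (MonoidAlgebra R' M) := LC.range
  have hP : ∀ c, θ (φ c) ∈ P := fun c => ⟨1 ⊗ₜ c, by simp [LC, ← MonoidAlgebra.one_def]⟩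
  have hInv : ∀ x ∈ P, invHom R' M x ∈ P := by
    rintro _ ⟨z, rfl⟩
    induction z using TensorProduct.induction_on with
    | zero => simp
    | tmul r c =>
      show invHom R' M (algebraMap R' _ r * θ (φ c)) ∈ P
      rw [map_mul, AlgHom.commutes, invHom_comp hθ]
      exact mul_mem (P.algebraMap_mem r) (hP _)
    | add x y hx hy => simp only [map_add]; exact add_mem hx hy
  have hwt : ∀ c m, MonoidAlgebra.single m ((θ (φ c)).coeff m) ∈ P := by
    intro c m
    rw [← pick_comul, hθ.compat.comul, ← CoalgHomClass.map_comp_comul_apply φ c]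
    generalize Coalgebra.comul (R := R) c = z
    induction z using TensorProduct.induction_on with
    | zero => simp
    | tmul x y =>
      simp [pick]
      exact P.smul_mem (hP x) _
    | add x y hx hy => simp only [map_add]; exact add_mem hx hy
  have hunit : ∀ m : M, MonoidAlgebra.single m (1 : R') ∈ P := by
    intro m
    let L_m : Ideal R' := (Subalgebra.toSubmodule P).comap (MonoidAlgebra.lsingle m)
    change (1 : R') ∈ L_m
    rw [← Ideal.eq_top_iff_one]
    by_contra hne
    obtain ⟨p, hp, hle⟩ := Ideal.exists_le_maximal L_m hne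
    haveI := hp.isPrime
    let N : Subgroup M :=
      { carrier := {n | ∃ r ∉ p, MonoidAlgebra.single n r ∈ P}
        one_mem' := ⟨1, (Ideal.ne_top_iff_one p).1 hp.ne_top, by rw [← MonoidAlgebra.one_def]; exact one_mem _⟩
        mul_mem' := fun {a b} ⟨r, hr, hra⟩ ⟨s, hs, hsb⟩ => ⟨r * s, fun h => (hp.isPrime.mem_or_mem h).elim hr hs, by
          simpa using mul_mem hra hsb⟩
        inv_mem' := fun {a} ⟨r, hr, hra⟩ => ⟨r, hr, by simpa [invHom_single] using hInv _ hra⟩ }
    let σ : MonoidAlgebra R' M →ₐ[R'] MonoidAlgebra (R' ⧸ p) (M ⧸ N) :=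
      MonoidAlgebra.lift R' (MonoidAlgebra (R' ⧸ p) (M ⧸ N)) M
        ((MonoidAlgebra.of (R' ⧸ p) (M ⧸ N)).comp (QuotientGroup.mk' N))
    let ε' : MonoidAlgebra R' M →ₐ[R'] MonoidAlgebra (R' ⧸ p) (M ⧸ N) :=
      (Algebra.ofId R' _).comp (Bialgebra.counitAlgHom R' (MonoidAlgebra R' M))
    have hσC : ∀ c, σ (θ (φ c)) = ε' (θ (φ c)) := by
      intro c
      have hx := hwt c
      revert hx
      generalize θ (φ c) = x
      intro hx
      rw [← x.sum_single, map_finsuppSum, map_finsuppSum]
      refine Finset.sum_congr rfl fun n hn => ?_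
      by_cases hr : x.coeff n ∈ p
      · simp [σ, ε', MonoidAlgebra.algebraMap_def, Ideal.Quotient.eq_zero_iff_mem.2 hr, Algebra.smul_def]
      · have hnN : (n : M ⧸ N) = 1 := (QuotientGroup.eq_one_iff n).2 ⟨_, hr, hx n⟩
        simp [σ, ε', MonoidAlgebra.algebraMap_def, hnN, Algebra.smul_def]
    have hσA : ∀ a, σ (θ a) = ε' (θ a) := by
      intro a
      have hJ : Ideal.map φ (RingHom.ker (Bialgebra.counitAlgHom R C)) ≤
          RingHom.ker ((σ.restrictScalars R).comp θ) := by
        refine Ideal.map_le_iff_le_comap.2 fun c hc => ?_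
        rw [Ideal.mem_comap, RingHom.mem_ker, AlgHom.comp_apply, AlgHom.restrictScalars_apply, hσC,
          AlgHom.comp_apply, Bialgebra.counitAlgHom_apply, hθ.compat.counit, CoalgHomClass.counit_comp_apply,
          ← Bialgebra.counitAlgHom_apply (R := R) (A := C), RingHom.mem_ker.1 hc, map_zero, map_zero]
      have h1 := hJ (hε a)
      rw [RingHom.mem_ker, map_sub, sub_eq_zero] at h1
      simp only [AlgHom.comp_apply, AlgHom.restrictScalars_apply, AlgHom.commutes] at h1
      rw [h1]
      simp [ε', hθ.compat.counit, ← IsScalarTower.algebraMap_apply]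
    have hσ : σ (MonoidAlgebra.single m 1) = ε' (MonoidAlgebra.single m 1) := by
      obtain ⟨z, hz⟩ := hθ.bij.2 (MonoidAlgebra.single m 1)
      rw [← hz]
      clear hz
      induction z using TensorProduct.induction_on with
      | zero => simp
      | tmul r a => simp only [Algebra.TensorProduct.lift_tmul, map_mul, Algebra.ofId_apply, AlgHom.commutes, hσA]
      | add x y hx hy => simp only [map_add, hx, hy]
    haveI : Nontrivial (R' ⧸ p) := Ideal.Quotient.nontrivial_iff.2 hp.ne_top
    have hm : m ∈ N := by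
      rw [← QuotientGroup.eq_one_iff]
      by_contra hne'
      have h2 := congrArg (fun x => x.coeff (m : M ⧸ N)) hσ
      simp [σ, ε', MonoidAlgebra.one_def, Finsupp.single_eq_of_ne hne'] at h2
    obtain ⟨r, hr, hrm⟩ := hm
    exact hr (hle hrm)
  have htop : ∀ x : MonoidAlgebra R' M, x ∈ P := by
    intro x
    induction x using MonoidAlgebra.induction_linear with
    | zero => exact zero_mem _
    | single n r =>
      rw [show MonoidAlgebra.single n r = r • MonoidAlgebra.single n (1 : R') by simp]
      exact P.smul_mem (hunit n) r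
    | add x y hx hy => exact add_mem hx hy
  obtain ⟨z, hz⟩ := htop (θ a)
  have hza : ((φ : C →ₐ[R] A).toLinearMap.lTensor R') z = (1 : R') ⊗ₜ a := by
    apply hθ.bij.1
    show L _ = L _
    rw [show L ((1 : R') ⊗ₜ a) = θ a by simp [L, ← MonoidAlgebra.one_def], ← hz]
    clear hz
    induction z using TensorProduct.induction_on with
    | zero => simp
    | tmul r c => simp [L, LC]
    | add x y hx hy => simp only [map_add, hx, hy]
  show ((LinearMap.range (φ : C →ₐ[R] A).toLinearMap).mkQ.lTensor R') ((1 : R') ⊗ₜ a) = 0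
  rw [← hza]
  clear hza hz
  induction z using TensorProduct.induction_on with
  | zero => simp
  | tmul r c =>
    rw [LinearMap.lTensor_tmul, LinearMap.lTensor_tmul, Submodule.mkQ_apply,
      (Submodule.Quotient.mk_eq_zero _).2 (LinearMap.mem_range_self _ c), tmul_zero]
  | add x y hx hy => simp only [map_add, hx, hy, add_zero]

end Groth.Agent.MultType
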