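import Groth.Agent.MultType.Coord
import Mathlib.RingTheory.Coalgebra.GroupLike
import Mathlib.RingTheory.Bialgebra.GroupLike
import Mathlib.RingTheory.HopfAlgebra.Quotient
import Mathlib.GroupTheory.QuotientGroup.Basic

/-!
Quotients of groups of multiplicative type; power maps in charts.
-/

universe u

open TensorProduct WithConv

noncomputable section

namespace Groth.Agent.MultType

section Compat

variable {R S T : Type u} [CommRing R] [CommRing S] [CommRing T] [Algebra R S] [Algebra S T] [Algebra R T]
  [IsScalarTower R S T]
variable {A D : Type u} [CommRing A] [Bialgebra R A] [CommRing D] [Bialgebra T D] [Algebra R D] [IsScalarTower R T D]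
  [Algebra S D] [IsScalarTower S T D] [IsScalarTower R S D]

/-- extension of scalars of a point -/
abbrev liftAlg (S : Type u) [CommRing S] [Algebra R S] [Algebra S D] [IsScalarTower R S D] (θ : A →ₐ[R] D) :
    S ⊗[R] A →ₐ[S] D :=
  Algebra.TensorProduct.lift (Algebra.ofId S D) θ fun _ _ => .all _ _

theorem Compat.liftAlg {θ : A →ₐ[R] D} (hθ : Compat T θ) : Compat T (MultType.liftAlg S θ) where
  counit x := by
    induction x using TensorProduct.induction_on with
    | zero => simp
    | tmul s a =>
      simp only [Algebra.TensorProduct.lift_tmul, Algebra.ofId_apply, Bialgebra.counit_mul, hθ.counit]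
      rw [IsScalarTower.algebraMap_apply S T D, Bialgebra.counit_algebraMap]
      simp [Algebra.smul_def, IsScalarTower.algebraMap_apply R S T, mul_comm]
    | add x y hx hy => simp only [map_add, hx, hy]
  comul x := by
    induction x using TensorProduct.induction_on with
    | zero => simp
    | tmul s a =>
      simp only [Algebra.TensorProduct.lift_tmul, Algebra.ofId_apply, Bialgebra.comul_mul, hθ.comul]
      rw [IsScalarTower.algebraMap_apply S T D, Bialgebra.comul_algebraMap, TensorProduct.comul_tmul]
      generalize Coalgebra.comul (R := R) a = z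
      induction z using TensorProduct.induction_on with
      | zero => simp
      | tmul x y =>
        simp [Algebra.TensorProduct.algebraMap_apply, Algebra.TensorProduct.tmul_mul_tmul]
        rw [IsScalarTower.algebraMap_apply S T D, ← Algebra.smul_def, ← Algebra.smul_def, smul_tmul]
      | add x y hx hy => simp only [tmul_add, map_add, mul_add, hx, hy]
    | add x y hx hy => simp only [map_add, hx, hy]

theorem Compat.isGroupLikeElem {θ : A →ₐ[R] D} (hθ : Compat T θ) {g : A} (hg : IsGroupLikeElem R g) :
    IsGroupLikeElem T (θ g) where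
  counit_eq_one := by rw [hθ.counit, hg.counit_eq_one, map_one]
  comul_eq_tmul_self := by rw [hθ.comul, hg.comul_eq_tmul_self, tmap_tmul]

end Compat

section Units

variable {S : Type u} [CommRing S] {Q : Type u} [CommRing Q] [Bialgebra S Q] {G : Type u} [CommGroup G]

/-- the homomorphism given by group-like values -/
def liftGroupLike (ζ : G →* Q) (hζ : ∀ g, IsGroupLikeElem S (ζ g)) : MonoidAlgebra S G →ₐc[S] Q :=
  BialgHom.ofAlgHom (MonoidAlgebra.lift S Q G ζ)
    (MonoidAlgebra.algHom_ext (fun g => by simp [(hζ g).counit_eq_one]) (Subsingleton.elim _ _))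
    (MonoidAlgebra.algHom_ext (fun g => by simp [(hζ g).comul_eq_tmul_self]) (Subsingleton.elim _ _))

@[simp] theorem liftGroupLike_single (ζ : G →* Q) (hζ : ∀ g, IsGroupLikeElem S (ζ g)) (g : G) (s : S) :
    liftGroupLike ζ hζ (MonoidAlgebra.single g s) = s • ζ g :=
  MonoidAlgebra.lift_single ..

/-- over a field a bialgebra spanned by group-like units is a group algebra -/
theorem isDiag_of_groupLike {K : Type u} [Field K] {Q : Type u} [CommRing Q] [HopfAlgebra K Q]
    (ζ : G →* Q) (hζ : ∀ g, IsGroupLikeElem K (ζ g)) (hs : Submodule.span K (Set.range ζ) = ⊤) :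
    SGA3b.IsDiag K Q := by
  let N := G ⧸ ζ.toHomUnits.ker
  let z : N →* Q := (Units.coeHom Q).comp (QuotientGroup.kerLift ζ.toHomUnits)
  have hz : ∀ n, IsGroupLikeElem K (z n) := fun n => QuotientGroup.induction_on n hζ
  have hinj : Function.Injective z := Units.val_injective.comp (QuotientGroup.kerLift_injective _)
  refine ⟨N, inferInstance, ⟨(BialgEquiv.ofBijective (liftGroupLike z hz) ⟨?_, ?_⟩).symm⟩⟩
  · rw [injective_iff_map_eq_zero]
    intro x hx
    have hli : LinearIndependent K z :=
      (linearIndepOn_isGroupLikeElem (R := K) (A := Q)).comp (fun n => (⟨z n, hz n⟩ : {a : Q // IsGroupLikeElem K a}))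
        fun a b h => hinj (congrArg Subtype.val h)
    have h0 : x.coeff = 0 := by
      refine linearIndependent_iff.1 hli x.coeff ?_
      rw [← hx, ← x.sum_single, map_finsuppSum]
      simp [Finsupp.linearCombination_apply]
    exact MonoidAlgebra.coeff_eq_zero.1 h0
  · intro q
    have : (⊤ : Submodule K Q) ≤ LinearMap.range (liftGroupLike z hz : MonoidAlgebra K N →ₐ[K] Q).toLinearMap := by
      rw [← hs, Submodule.span_le]
      rintro _ ⟨g, rfl⟩
      exact ⟨MonoidAlgebra.single (QuotientGroup.mk g) 1, by simp [z]; rfl⟩
    obtain ⟨x, hx⟩ := this (Submodule.mem_top : q ∈ _)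
    exact ⟨x, hx⟩

end Units

section Pow

variable {R : Type u} [CommRing R] {A : Type u} [CommRing A] [HopfAlgebra R A]
  {R' : Type u} [CommRing R'] [Algebra R R'] {M : Type u} [CommGroup M] {θ : A →ₐ[R] MonoidAlgebra R' M}

/-- `[m] ↦ [mⁿ]` -/
def powHom (R' M : Type u) [CommRing R'] [CommGroup M] (n : ℕ) : MonoidAlgebra R' M →ₐ[R'] MonoidAlgebra R' M :=
  MonoidAlgebra.mapDomainAlgHom R' R' (powMonoidHom n : M →* M)

theorem powHom_single (n : ℕ) (m : M) (r : R') :
    powHom R' M n (MonoidAlgebra.single m r) = MonoidAlgebra.single (m ^ n) r :=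
  MonoidAlgebra.mapDomain_single

theorem powConv_zero_apply (a : A) : SGA3b.powConv R A 0 a = algebraMap R A (Coalgebra.counit a) := by
  rw [SGA3b.powConv, pow_zero]; rfl

theorem map_powConv (hθ : Compat R' θ) (n : ℕ) (a : A) : θ (SGA3b.powConv R A n a) = powHom R' M n (θ a) := by
  induction n generalizing a with
  | zero =>
    rw [powConv_zero_apply, AlgHom.commutes, IsScalarTower.algebraMap_apply R R' (MonoidAlgebra R' M), ← hθ.counit]
    generalize θ a = x
    induction x using MonoidAlgebra.induction_linear with
    | zero => simp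
    | single m r => simp [powHom_single, MonoidAlgebra.algebraMap_def]
    | add x y hx hy => rw [map_add, map_add, map_add, hx, hy]
  | succ n ih =>
    let Λ : MonoidAlgebra R' M ⊗[R'] MonoidAlgebra R' M →ₗ[R'] MonoidAlgebra R' M :=
      LinearMap.mul' R' _ ∘ₗ TensorProduct.map (powHom R' M n).toLinearMap LinearMap.id
    have h1 : θ (SGA3b.powConv R A (n + 1) a) = Λ (Coalgebra.comul (R := R') (θ a)) := by
      rw [SGA3b.powConv, pow_succ, AlgHom.convMul_apply, hθ.comul]
      generalize Coalgebra.comul (R := R) a = z
      induction z using TensorProduct.induction_on with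
      | zero => simp
      | tmul x y =>
        simp only [Algebra.TensorProduct.map_tmul, Algebra.TensorProduct.lmul'_apply_tmul, map_mul, WithConv.ofConv_toConv,
          AlgHom.id_apply, tmap_tmul, Λ, LinearMap.coe_comp, Function.comp_apply, TensorProduct.map_tmul,
          LinearMap.mul'_apply, AlgHom.toLinearMap_apply, LinearMap.id_coe, id_eq, ← ih]
        rw [Algebra.TensorProduct.lift_tmul, map_mul]
        rfl
      | add x y hx hy => simp only [map_add, hx, hy]
    rw [h1]
    generalize θ a = x
    induction x using MonoidAlgebra.induction_linear with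
    | zero => simp
    | single m r => simp [Λ, MonoidAlgebra.comul_single, powHom_single, pow_succ]
    | add x y hx hy => rw [map_add, map_add, map_add, hx, hy]

end Pow

end Groth.Agent.MultType
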